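import Mathlib
import Groth.Agent.PointDom.Core

/-!
# Birational local homomorphisms of two-dimensional regular local rings
-/

set_option autoImplicit false
set_option linter.style.haveILetI false
set_option linter.unusedSectionVars false
set_option maxHeartbeats 400000

universe u

open IsLocalRing

namespace Groth.Agent.SurfSeq

variable {S : Type u} [CommRing S]

theorem sup_pow_succ (A B : Ideal S) (n : ℕ) : (A ⊔ B) ^ (n + 1) = A * (A ⊔ B) ^ n ⊔ B ^ (n + 1) := by
  induction n with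
  | zero => simp
  | succ n ih =>
    apply le_antisymm
    · rw [pow_succ' (A ⊔ B) (n + 1), Ideal.sup_mul]
      refine sup_le le_sup_left ?_
      rw [ih, Ideal.mul_sup, ← pow_succ' B]
      refine sup_le ?_ le_sup_right
      refine le_trans ?_ le_sup_left
      rw [← mul_assoc, mul_comm B A, mul_assoc, ← ih, pow_succ' (A ⊔ B) n]
      exact mul_le_mul' le_rfl (mul_le_mul' le_sup_right le_rfl)
    · refine sup_le ?_ (Ideal.pow_right_mono le_sup_right _)
      rw [pow_succ' (A ⊔ B) (n + 1)]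
      exact mul_le_mul' le_sup_left le_rfl

theorem exists_decomp (I : Ideal S) {a b x : S} (n : ℕ) (hx : x ∈ I * Ideal.span {a, b} ^ (n + 1)) :
    ∃ g ∈ I, ∃ y ∈ I * Ideal.span {a, b} ^ n, x = g * b ^ (n + 1) + a * y := by
  rw [Ideal.span_insert, sup_pow_succ, Ideal.mul_sup, ← Ideal.span_insert, Submodule.mem_sup] at hx
  obtain ⟨p, hp, q, hq, rfl⟩ := hx
  rw [Ideal.span_singleton_pow, Ideal.mem_mul_span_singleton] at hq
  obtain ⟨g, hg, rfl⟩ := hq
  rw [← mul_assoc, mul_comm I, mul_assoc, Ideal.mem_span_singleton_mul] at hp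
  obtain ⟨y, hy, rfl⟩ := hp
  exact ⟨g, hg, y, hy, add_comm _ _⟩

variable [IsDomain S] [IsLocalRing S] [DecompositionMonoid S]

theorem mul_mem_maximal_mul {a b d : S} (hb : b ∈ maximalIdeal S) (n : ℕ) :
    d * b ^ (n + 1) ∈ maximalIdeal S * Ideal.span {a, b} ^ n := by
  rw [pow_succ', ← mul_assoc]
  exact Ideal.mul_mem_mul (Ideal.mul_mem_left _ _ hb) (Ideal.pow_mem_pow (Ideal.subset_span (by simp)) n)

variable {R : Type u} [CommRing R] [IsLocalRing R] (φ : R →+* S) [IsLocalHom φ] {a₀ b₀ : R} {c a b : S}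

/-- Elements of exact order `n` are `c ^ n` times a primitive form of degree `n` in the coprime
coordinates. -/
theorem mem_pow_succ_of_weight (hgen : maximalIdeal R = Ideal.span {a₀, b₀}) (hc : c ≠ 0) (ha0 : a ≠ 0)
    (ha₀ : φ a₀ = c * a) (hb₀ : φ b₀ = c * b) (ha : a ∈ maximalIdeal S) (hb : b ∈ maximalIdeal S) (hab : IsRelPrime a b) (n : ℕ) :
    ∀ r ∈ maximalIdeal R ^ n, ∀ x ∈ maximalIdeal S * Ideal.span {a, b} ^ n, φ r = c ^ n * x →
      r ∈ maximalIdeal R ^ (n + 1) := by
  induction n with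
  | zero =>
    intro r _ x hx he
    rw [pow_zero, Ideal.one_eq_top, Ideal.mul_top] at hx
    rw [pow_zero, one_mul] at he
    rw [zero_add, pow_one]
    exact (mem_maximalIdeal r).2 fun hu => (mem_maximalIdeal x).1 hx (he ▸ hu.map φ)
  | succ n ih =>
    intro r hr x hx he
    have hr' : r ∈ (⊤ : Ideal R) * Ideal.span {a₀, b₀} ^ (n + 1) := by
      rw [Ideal.top_mul, ← hgen]; exact hr
    obtain ⟨f, -, r₁, hr₁, rfl⟩ := exists_decomp ⊤ n hr'
    rw [Ideal.top_mul, ← hgen] at hr₁
    obtain ⟨g, hg, y, hy, rfl⟩ := exists_decomp (maximalIdeal S) n hx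
    have hφ₁ : φ r₁ ∈ Ideal.span {c ^ n} * Ideal.span {a, b} ^ n := by
      have h1 : φ r₁ ∈ (maximalIdeal R ^ n).map φ := Ideal.mem_map_of_mem _ hr₁
      rw [hgen, Ideal.map_pow, Ideal.map_span, Set.image_pair, ha₀, hb₀] at h1
      have h2 : Ideal.span {c * a, c * b} = Ideal.span {c} * Ideal.span {a, b} := by
        simp only [Ideal.span_insert, Ideal.mul_sup, Ideal.span_singleton_mul_span_singleton]
      rwa [h2, mul_pow, Ideal.span_singleton_pow] at h1
    obtain ⟨x₁, hx₁, hx₁e⟩ := Ideal.mem_span_singleton_mul.1 hφ₁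
    rw [map_add, map_mul, map_mul, map_pow, hb₀, ha₀, ← hx₁e] at he
    have he' : (φ f - g) * b ^ (n + 1) = a * (y - x₁) := by
      refine mul_left_cancel₀ (pow_ne_zero (n + 1) hc) ?_
      linear_combination he
    obtain ⟨d, hd⟩ : a ∣ φ f - g := (hab.pow_right).dvd_of_dvd_mul_right ⟨_, he'⟩
    have hy' : y - x₁ = d * b ^ (n + 1) := by
      refine mul_left_cancel₀ ha0 ?_
      rw [← he', hd, mul_assoc]
    have hf : f ∈ maximalIdeal R := (mem_maximalIdeal f).2 fun hu => (mem_maximalIdeal (φ f)).1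
      (show φ f ∈ maximalIdeal S by
        rw [show φ f = g + a * d by rw [← hd]; ring]
        exact Ideal.add_mem _ hg (Ideal.mul_mem_right _ _ ha)) (hu.map φ)
    have hr₁' : r₁ ∈ maximalIdeal R ^ (n + 1) := ih r₁ hr₁ x₁
      (show x₁ ∈ _ by
        rw [show x₁ = y - d * b ^ (n + 1) by rw [← hy']; ring]
        exact sub_mem hy (mul_mem_maximal_mul hb n)) hx₁e.symm
    refine add_mem ?_ ?_
    · rw [pow_succ' (maximalIdeal R) (n + 1)]
      exact Ideal.mul_mem_mul hf (Ideal.pow_mem_pow (hgen ▸ Ideal.subset_span (by simp)) _)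
    · rw [pow_succ' (maximalIdeal R) (n + 1)]
      exact Ideal.mul_mem_mul (hgen ▸ Ideal.subset_span (by simp)) hr₁'

/-- Every nonzero element is a power of the common factor times a primitive form. -/
theorem exists_weight [IsNoetherianRing R] [IsDomain R] (hgen : maximalIdeal R = Ideal.span {a₀, b₀})
    (hc : c ≠ 0) (ha0 : a ≠ 0) (ha₀ : φ a₀ = c * a) (hb₀ : φ b₀ = c * b) (ha : a ∈ maximalIdeal S)
    (hb : b ∈ maximalIdeal S) (hab : IsRelPrime a b) {r : R} (hr : r ≠ 0) :
    ∃ n : ℕ, ∃ x ∈ Ideal.span {a, b} ^ n, x ∉ maximalIdeal S * Ideal.span {a, b} ^ n ∧ φ r = c ^ n * x := by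
  classical
  have hex : ∃ k, r ∉ maximalIdeal R ^ (k + 1) := by
    by_contra! h
    refine hr ?_
    have h1 : r ∈ ⨅ i : ℕ, maximalIdeal R ^ i := Ideal.mem_iInf.2 fun i => by
      cases i with
      | zero => rw [pow_zero, Ideal.one_eq_top]; trivial
      | succ k => exact h k
    rwa [Ideal.iInf_pow_eq_bot_of_isLocalRing _ (maximalIdeal.isMaximal R).ne_top, Ideal.mem_bot] at h1
  have hn : r ∈ maximalIdeal R ^ Nat.find hex := by
    cases hk : Nat.find hex with
    | zero => rw [pow_zero, Ideal.one_eq_top]; trivial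
    | succ k => exact not_not.1 (Nat.find_min hex (m := k) (by omega))
  have hspec := Nat.find_spec hex
  generalize Nat.find hex = n at hn hspec
  have h1 : φ r ∈ (maximalIdeal R ^ n).map φ := Ideal.mem_map_of_mem _ hn
  rw [hgen, Ideal.map_pow, Ideal.map_span, Set.image_pair, ha₀, hb₀] at h1
  have h2 : Ideal.span {c * a, c * b} = Ideal.span {c} * Ideal.span {a, b} := by
    simp only [Ideal.span_insert, Ideal.mul_sup, Ideal.span_singleton_mul_span_singleton]
  rw [h2, mul_pow, Ideal.span_singleton_pow, Ideal.mem_span_singleton_mul] at h1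
  obtain ⟨x, hx, hxe⟩ := h1
  exact ⟨n, x, hx, fun hx' => hspec
    (mem_pow_succ_of_weight φ hgen hc ha0 ha₀ hb₀ ha hb hab _ r hn x hx' hxe.symm), hxe.symm⟩

/-- The maximal ideal becomes principal or of finite colength. -/
theorem principal_or_primary {R S : Type u} [CommRing R] [IsDomain R] [CommRing S] [IsDomain S]
    [IsRegularLocalRing R] [IsRegularLocalRing S] (hR : ringKrullDim R = 2) (hS : ringKrullDim S = 2)
    (φ : R →+* S) [IsLocalHom φ] (hφ : Function.Injective φ)
    (hfrac : ∀ x : S, ∃ r s : R, s ≠ 0 ∧ x * φ s = φ r) :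
    ((maximalIdeal R).map φ).IsPrincipal ∨ ∃ n : ℕ, maximalIdeal S ^ n ≤ (maximalIdeal R).map φ := by
  classical
  haveI := (S2821.result S).2
  obtain ⟨t, ht, htm⟩ := Submodule.FG.exists_span_finset_card_eq_spanFinrank
    (IsNoetherian.noetherian (maximalIdeal R) : (maximalIdeal R).FG)
  have ht2 : t.card = 2 := by
    have h := IsRegularLocalRing.spanFinrank_maximalIdeal (R := R)
    rw [← ht, hR] at h
    exact_mod_cast h
  obtain ⟨a₀, b₀, -, rfl⟩ := Finset.card_eq_two.1 ht2
  have hgen : maximalIdeal R = Ideal.span {a₀, b₀} := by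
    rw [← htm, Ideal.submodule_span_eq]; simp
  have hmap : (maximalIdeal R).map φ = Ideal.span {φ a₀, φ b₀} := by
    rw [hgen, Ideal.map_span, Set.image_pair]
  by_cases hA : φ a₀ = 0
  · exact Or.inl (hmap ▸ ⟨φ b₀, by rw [hA, Ideal.span_insert, Set.singleton_zero, Ideal.span_zero, bot_sup_eq]⟩)
  obtain ⟨a, b, c, hab, hca, hcb⟩ := UniqueFactorizationMonoid.exists_reduced_factors (φ a₀) hA (φ b₀)
  have h2 : Ideal.span {c * a, c * b} = Ideal.span {c} * Ideal.span {a, b} := by
    simp only [Ideal.span_insert, Ideal.mul_sup, Ideal.span_singleton_mul_span_singleton]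
  by_cases hu : IsUnit a ∨ IsUnit b
  · left
    have htop : Ideal.span {a, b} = ⊤ := by
      rcases hu with hu | hu <;> exact Ideal.eq_top_of_isUnit_mem _ (Ideal.subset_span (by simp)) hu
    exact hmap ▸ ⟨c, by rw [← hca, ← hcb, h2, htop, Ideal.mul_top]⟩
  push Not at hu
  have ha : a ∈ maximalIdeal S := (mem_maximalIdeal a).2 hu.1
  have hb : b ∈ maximalIdeal S := (mem_maximalIdeal b).2 hu.2
  have ha0 : a ≠ 0 := fun h => hA (by rw [← hca, h, mul_zero])
  have hc0 : c ≠ 0 := fun h => hA (by rw [← hca, h, zero_mul])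
  by_cases hcu : IsUnit c
  · right
    have hb0 : b ≠ 0 := fun h => hu.1 (hab dvd_rfl (h ▸ dvd_zero a))
    obtain ⟨n, hn⟩ := PointDom.pow_le_span_pair hS hb0 hab
    exact ⟨n, by rw [hmap, ← hca, ← hcb, h2, Ideal.span_singleton_eq_top.2 hcu, Ideal.top_mul]; exact hn⟩
  exfalso
  have hcm : c ∈ maximalIdeal S := (mem_maximalIdeal c).2 hcu
  obtain ⟨r, s, hs, hrs⟩ := hfrac c
  have hr : r ≠ 0 := fun h => by
    rw [h, map_zero] at hrs
    exact hs (hφ ((mul_eq_zero.1 hrs).resolve_left hc0 |>.trans (map_zero φ).symm))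
  obtain ⟨n, x, hx, hx', hxe⟩ := exists_weight φ hgen hc0 ha0 hca.symm hcb.symm ha hb hab hr
  obtain ⟨m, y, hy, hy', hye⟩ := exists_weight φ hgen hc0 ha0 hca.symm hcb.symm ha hb hab hs
  rw [hxe, hye] at hrs
  have hJ : Ideal.span {a, b} ≤ maximalIdeal S := Ideal.span_le.2 (by simp [Set.insert_subset_iff, ha, hb])
  rcases le_or_gt n m with h | h
  · obtain ⟨k, rfl⟩ := Nat.exists_eq_add_of_le h
    have he : x = c ^ (k + 1) * y := by
      refine mul_left_cancel₀ (pow_ne_zero n hc0) ?_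
      rw [← hrs]; ring
    refine hx' (he ▸ Ideal.mul_mem_mul (Ideal.pow_mem_of_mem _ hcm _ (by omega)) ?_)
    exact Ideal.pow_le_pow_right (by omega) hy
  · obtain ⟨k, rfl⟩ := Nat.exists_eq_add_of_le (Nat.succ_le_of_lt h)
    have he : y = c ^ k * x := by
      refine mul_left_cancel₀ (pow_ne_zero (m + 1) hc0) ?_
      have : c ^ (m + 1) * y = c ^ (m + 1 + k) * x := by rw [← hrs]; ring
      rw [this]; ring
    refine hy' (he ▸ Ideal.mul_mem_left _ _ ?_)
    have h3 : x ∈ Ideal.span {a, b} ^ (m + 1) := Ideal.pow_le_pow_right (by omega) hx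
    rw [pow_succ'] at h3
    exact mul_le_mul' hJ le_rfl h3

end Groth.Agent.SurfSeq
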