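import Mathlib
import Groth.Agent.PurBir.Purity
import Groth.Agent.Lib.ZMTCodim
import Groth.Agent.PointBlow.CartierPart
import Groth.Agent.SurfSeq.Alg

/-!
# Proper birational morphisms of regular surfaces at the points
-/

set_option autoImplicit false
set_option linter.style.haveILetI false
set_option linter.unusedSectionVars false
set_option backward.isDefEq.respectTransparency false
set_option backward.isDefEq.respectTransparency.types false
set_option maxHeartbeats 400000

universe u

open CategoryTheory CategoryTheory.Limits AlgebraicGeometry TopologicalSpace IsLocalRing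
open Groth.Agent.H23.StalkIdeal

noncomputable section

namespace Groth.Agent.SurfSeq

variable {X Y : Scheme.{u}} [IsIntegral X] [IsIntegral Y] (f : X ⟶ Y)

section Generic

variable [LocallyOfFiniteType f] (hbir : IsIso (f.stalkMap (genericPoint X)))
include hbir

theorem exists_open : ∃ W : X.Opens, (W : Set X).Nonempty ∧ IsOpenImmersion (W.ι ≫ f) := by
  obtain ⟨W, hW, hOI⟩ := PurBir.exists_isOpenImmersion_of_isIso_stalkMap f hbir
  exact ⟨W, ⟨_, hW⟩, hOI⟩

theorem map_generic : f (genericPoint X) = genericPoint Y := by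
  obtain ⟨W, hW, hOI⟩ := exists_open f hbir
  exact PurBir.map_genericPoint f hW

theorem surjective_functionField : Function.Surjective
    (CohIII.stalkToFunctionField f (genericPoint Y) (specializes_of_eq (map_generic f hbir))) := by
  haveI := hbir
  haveI := BirNormal.isIso_stalkSpecializes_of_eq (map_generic f hbir) (specializes_of_eq (map_generic f hbir))
  exact (ConcreteCategory.bijective_of_isIso
    (Y.presheaf.stalkSpecializes (specializes_of_eq (map_generic f hbir)) ≫ f.stalkMap (genericPoint X))).2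

theorem injective_stalk (x : X) : Function.Injective (f.stalkMap x) := by
  haveI := hbir
  intro a c hac
  have hsp : f (genericPoint X) ⤳ f x := (genericPoint_specializes x).map f.continuous
  have hinj : Function.Injective (Y.presheaf.stalkSpecializes hsp).hom := by
    have key : ∀ (z : Y) (hz : z = genericPoint Y) (h : z ⤳ f x),
        Function.Injective (Y.presheaf.stalkSpecializes h).hom := by
      rintro z rfl h
      exact IsFractionRing.injective (Y.presheaf.stalk (f x)) Y.functionField
    exact key _ (map_generic f hbir) _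
  refine hinj ((ConcreteCategory.bijective_of_isIso (f.stalkMap (genericPoint X))).1 ?_)
  have hcomm := Scheme.Hom.stalkSpecializes_stalkMap f (genericPoint X) x (genericPoint_specializes x)
  exact (congr($hcomm a)).trans ((congrArg _ hac).trans (congr($hcomm c)).symm)

theorem exists_fraction (x : X) (a : X.presheaf.stalk x) :
    ∃ r s : Y.presheaf.stalk (f x), s ≠ 0 ∧ a * f.stalkMap x s = f.stalkMap x r := by
  haveI := hbir
  have hsp : genericPoint X ⤳ x := genericPoint_specializes x
  let ρ := Y.presheaf.stalkSpecializes (hsp.map f.continuous)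
  letI : Algebra (Y.presheaf.stalk (f x)) (Y.presheaf.stalk (f (genericPoint X))) := ρ.hom.toAlgebra
  haveI : IsFractionRing (Y.presheaf.stalk (f x)) (Y.presheaf.stalk (f (genericPoint X))) := by
    have key : ∀ (z : Y) (hz : z = genericPoint Y) (h : z ⤳ f x),
        @IsFractionRing (Y.presheaf.stalk (f x)) _ (Y.presheaf.stalk z) _
          (Y.presheaf.stalkSpecializes h).hom.toAlgebra := by
      rintro z rfl h
      exact instIsFractionRingCarrierStalkCommRingCatPresheafFunctionField Y (f x)
    exact key _ (map_generic f hbir) _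
  obtain ⟨q, hq⟩ := (ConcreteCategory.bijective_of_isIso (f.stalkMap (genericPoint X))).2
    (algebraMap (X.presheaf.stalk x) X.functionField a)
  obtain ⟨⟨r, s⟩, hrs⟩ := IsLocalization.surj (nonZeroDivisors (Y.presheaf.stalk (f x))) q
  refine ⟨r, s, nonZeroDivisors.ne_zero s.2, IsFractionRing.injective (X.presheaf.stalk x) X.functionField ?_⟩
  have hcomm := Scheme.Hom.stalkSpecializes_stalkMap f (genericPoint X) x hsp
  have h1 : ∀ b, algebraMap (X.presheaf.stalk x) X.functionField (f.stalkMap x b) =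
      f.stalkMap (genericPoint X) (algebraMap _ (Y.presheaf.stalk (f (genericPoint X))) b) :=
    fun b => (congr($hcomm b)).symm
  rw [map_mul, ← hq, h1, h1, ← map_mul]
  exact congrArg _ hrs

/-- Over points of codimension at most one the stalk maps are bijective. -/
theorem isIso_of_dim_le_one (hY : ∀ y : Y, IsRegularLocalRing (Y.presheaf.stalk y)) (x : X)
    (h : ringKrullDim (Y.presheaf.stalk (f x)) ≤ 1) : IsIso (f.stalkMap x) := by
  haveI := hY (f x)
  haveI := (S2821.result (Y.presheaf.stalk (f x))).2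
  haveI : Ring.KrullDimLE 1 (Y.presheaf.stalk (f x)) := Ring.krullDimLE_iff.mpr h
  haveI : Ring.DimensionLEOne (Y.presheaf.stalk (f x)) :=
    ⟨fun {p} hp0 hp => Ring.krullDimLE_one_iff_of_noZeroDivisors.mp inferInstance p hp0 hp⟩
  have hD : IsDedekindDomain (Y.presheaf.stalk (f x)) := {}
  have hv : ValuationRing (Y.presheaf.stalk (f x)) :=
    ((tfae_of_isNoetherianRing_of_isLocalRing_of_isDomain (Y.presheaf.stalk (f x))).out 2 1
      (a := IsDedekindDomain (Y.presheaf.stalk (f x))) (b := ValuationRing (Y.presheaf.stalk (f x))) rfl rfl).mp hD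
  exact (ConcreteCategory.isIso_iff_bijective _).2 ⟨injective_stalk f hbir x,
    Lib.ZMTCodim.surjective_stalkMap f _ (surjective_functionField f hbir) x hv⟩

/-- A point with bijective stalk map is alone in its fibre. -/
theorem eq_of_isIso [IsSeparated f] {z x : X} (hzx : f z = f x) (hz : IsIso (f.stalkMap z)) : x = z := by
  haveI := hz
  obtain ⟨W, hW, hOI⟩ := exists_open f hbir
  haveI := hOI
  let e : Y.presheaf.stalk (f z) ⟶ Y.presheaf.stalk (f x) := Y.presheaf.stalkSpecializes (specializes_of_eq hzx.symm)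
  haveI : IsIso e := BirNormal.isIso_stalkSpecializes_of_eq hzx.symm _
  let ψ : X.presheaf.stalk z ⟶ X.presheaf.stalk x := inv (f.stalkMap z) ≫ e ≫ f.stalkMap x
  haveI : IsLocalHom e.hom := isLocalHom_of_isIso e
  haveI : IsLocalHom (inv (f.stalkMap z)).hom := isLocalHom_of_isIso _
  haveI : IsLocalHom (f.stalkMap x).hom := inferInstance
  haveI hψ : IsLocalHom ψ.hom :=
    inferInstanceAs (IsLocalHom (((f.stalkMap x).hom.comp e.hom).comp (inv (f.stalkMap z)).hom))
  let h : Spec (X.presheaf.stalk x) ⟶ X := Spec.map ψ ≫ X.fromSpecStalk z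
  have hh : h ≫ f = X.fromSpecStalk x ≫ f := by
    rw [← Scheme.SpecMap_stalkMap_fromSpecStalk, Category.assoc, ← Scheme.SpecMap_stalkMap_fromSpecStalk,
      Spec.map_comp, Spec.map_comp, Category.assoc, Category.assoc, ← Spec.map_comp_assoc (f.stalkMap z),
      IsIso.hom_inv_id, Spec.map_id, Category.id_comp, Scheme.SpecMap_stalkSpecializes_fromSpecStalk]
  let A := X.presheaf.stalk x
  let q : Spec (CommRingCat.of (FractionRing A)) ⟶ Spec A := Spec.map (CommRingCat.ofHom (algebraMap A (FractionRing A)))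
  haveI : IsDominant q := ⟨by
    rw [DenseRange, dense_iff_closure_eq]
    exact (PrimeSpectrum.denseRange_comap_iff_ker_le_nilRadical _).2
      (((RingHom.injective_iff_ker_eq_bot _).1 (IsFractionRing.injective A (FractionRing A))).le.trans bot_le)
        |>.closure_eq⟩
  have hpt : ∀ t, (q ≫ X.fromSpecStalk x) t = genericPoint X ∧ (q ≫ h) t = genericPoint X := by
    intro t
    have hbot : q t = (⟨⊥, Ideal.bot_prime⟩ : PrimeSpectrum A) := by
      refine PrimeSpectrum.ext ?_
      show t.asIdeal.comap (algebraMap A (FractionRing A)) = ⊥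
      rw [(Ideal.eq_bot_or_top t.asIdeal).resolve_right t.2.ne_top]
      exact (RingHom.injective_iff_ker_eq_bot _).1 (IsFractionRing.injective A (FractionRing A))
    have hgx : (q ≫ X.fromSpecStalk x) t = genericPoint X := by
      rw [Scheme.Hom.comp_apply, hbot]
      obtain ⟨s, hs⟩ : genericPoint X ∈ Set.range (X.fromSpecStalk x) := by
        rw [Scheme.range_fromSpecStalk]; exact genericPoint_specializes x
      refine IsGenericPoint.eq ?_ (genericPoint_spec X)
      rw [isGenericPoint_def, Set.eq_univ_iff_forall]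
      intro w
      have h1 : X.fromSpecStalk x (⟨⊥, Ideal.bot_prime⟩ : PrimeSpectrum A) ⤳ X.fromSpecStalk x s :=
        ((PrimeSpectrum.le_iff_specializes _ _).1 (show (⟨⊥, Ideal.bot_prime⟩ : PrimeSpectrum A) ≤ s from bot_le)).map
          (X.fromSpecStalk x).continuous
      rw [hs] at h1
      exact (h1.trans (genericPoint_specializes w)).mem_closure
    refine ⟨hgx, ?_⟩
    have hfx : f ((q ≫ h) t) = f (genericPoint X) := by
      rw [← hgx, ← Scheme.Hom.comp_apply, ← Scheme.Hom.comp_apply, Category.assoc, hh, Category.assoc]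
    obtain ⟨s, hs⟩ : genericPoint X ∈ Set.range (X.fromSpecStalk z) := by
      rw [Scheme.range_fromSpecStalk]; exact genericPoint_specializes z
    have hq : (q ≫ h) t = X.fromSpecStalk z (Spec.map ψ (q t)) := rfl
    rw [hq] at hfx ⊢
    rw [← hs] at hfx ⊢
    refine congrArg _ ((Spec.map (f.stalkMap z) ≫ Y.fromSpecStalk (f z)).isEmbedding.injective ?_)
    have key : ∀ p, (Spec.map (f.stalkMap z) ≫ Y.fromSpecStalk (f z)) p = f (X.fromSpecStalk z p) := fun p => by
      rw [Scheme.SpecMap_stalkMap_fromSpecStalk, Scheme.Hom.comp_apply]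
    rw [key, key]
    exact hfx
  have hgen := PurBir.genericPoint_mem hW
  have hr₁ : Set.range (q ≫ X.fromSpecStalk x) ⊆ Set.range W.ι := by
    rintro _ ⟨t, rfl⟩; rw [Scheme.Opens.range_ι, (hpt t).1]; exact hgen
  have hr₂ : Set.range (q ≫ h) ⊆ Set.range W.ι := by
    rintro _ ⟨t, rfl⟩; rw [Scheme.Opens.range_ι, (hpt t).2]; exact hgen
  have hq : q ≫ h = q ≫ X.fromSpecStalk x := by
    rw [← IsOpenImmersion.lift_fac W.ι _ hr₁, ← IsOpenImmersion.lift_fac W.ι _ hr₂]
    congr 1
    rw [← cancel_mono (W.ι ≫ f), IsOpenImmersion.lift_fac_assoc, IsOpenImmersion.lift_fac_assoc,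
      Category.assoc]
    show q ≫ h ≫ f = _
    rw [hh, Category.assoc]
  have he := ext_of_isDominant_of_isSeparated f hh q hq
  have h1 := congr($(he) (closedPoint A))
  rw [Scheme.fromSpecStalk_closedPoint, Scheme.Hom.comp_apply] at h1
  rw [← h1]
  exact (congrArg (X.fromSpecStalk z) (IsLocalRing.comap_closedPoint ψ.hom)).trans Scheme.fromSpecStalk_closedPoint

end Generic

/-- An isolated point of its fibre is quasi-finite. -/
theorem quasiFiniteAt_of_isolated [LocallyOfFiniteType f] (x : X) (N : X.Opens) (hx : x ∈ N)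
    (hN : ∀ w ∈ N, f w = f x → w = x) : f.QuasiFiniteAt x := by
  rw [Scheme.Hom.quasiFiniteAt_iff_isOpen_singleton_asFiber, ← (f.fiberHomeo (f x)).isOpen_image]
  simp only [Set.image_singleton, Scheme.Hom.asFiber, Homeomorph.apply_symm_apply]
  refine isOpen_induced_iff.2 ⟨N, N.isOpen, ?_⟩
  ext w
  constructor
  · intro hw
    exact Subtype.ext (hN w.1 hw w.2)
  · rintro rfl
    exact hx

/-- A point which is closed and maximal in a closed set is isolated in it. -/
theorem exists_isolating [NoetherianSpace X] {C : Set X} (hC : IsClosed C) {x : X}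
    (hcl : IsClosed ({x} : Set X)) (hmax : ∀ w ∈ C, w ⤳ x → w = x) :
    ∃ N : X.Opens, x ∈ N ∧ ∀ w ∈ N, w ∈ C → w = x := by
  obtain ⟨S, hSf, hSc, hSi, hS⟩ := NoetherianSpace.exists_finite_set_isClosed_irreducible hC
  let T : Set X := ⋃₀ {s ∈ S | x ∉ s}
  have hT : IsClosed T := by
    rw [show T = ⋃ s ∈ {s ∈ S | x ∉ s}, s from Set.sUnion_eq_biUnion]
    exact Set.Finite.isClosed_biUnion (hSf.subset fun s hs => hs.1) fun s hs => hSc s hs.1
  refine ⟨⟨Tᶜ, hT.isOpen_compl⟩, fun ⟨s, hs, hxs⟩ => hs.2 hxs, fun w hw hwC => ?_⟩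
  rw [hS] at hwC
  obtain ⟨s, hs, hws⟩ := hwC
  have hxs : x ∈ s := by_contra fun h => hw ⟨s, ⟨hs, h⟩, hws⟩
  obtain ⟨η, hη⟩ := QuasiSober.sober (hSi s hs) (hSc s hs)
  have hηC : η ∈ C := by rw [hS]; exact ⟨s, hs, hη.mem⟩
  have hηx := hmax η hηC (hη.specializes hxs)
  rw [← hη.def, hηx, hcl.closure_eq] at hws
  exact hws

variable [IsNoetherian X] [LocallyOfFiniteType f] (hbir : IsIso (f.stalkMap (genericPoint X)))
include hbir

/-- A point which is not a local isomorphism has a non-isomorphic generization of codimension one. -/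
theorem exists_dim_one (hY : ∀ y : Y, IsRegularLocalRing (Y.presheaf.stalk y)) (z : X)
    (hz : ¬ IsIso (f.stalkMap z)) :
    ∃ ξ : X, ξ ⤳ z ∧ ¬ IsIso (f.stalkMap ξ) ∧ ringKrullDim (X.presheaf.stalk ξ) = 1 := by
  classical
  obtain ⟨W, hW, hOI⟩ := exists_open f hbir
  haveI := hOI
  have hu : ∀ y : Y, UniqueFactorizationMonoid (Y.presheaf.stalk y) := fun y => by
    haveI := hY y
    exact (S2821.result (Y.presheaf.stalk y)).2
  obtain ⟨ξ, ⟨hξz, hξ⟩, hmin⟩ := (InvImage.wf (Order.coheight : X → ℕ∞) wellFounded_lt).has_min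
    {w : X | w ⤳ z ∧ ¬ IsIso (f.stalkMap w)} ⟨z, specializes_rfl, hz⟩
  refine ⟨ξ, hξz, hξ, ?_⟩
  by_contra hdim
  refine hξ (PurBir.isIso_stalkMap_of_ringKrullDim f hu hW ξ hdim fun η hη hne => ?_)
  by_contra hη'
  refine hmin η ⟨hη.trans hξz, hη'⟩ ?_
  refine Order.coheight_strictAnti (lt_of_le_not_ge hη fun h => hne (hη.antisymm h).eq) ?_
  refine lt_of_le_of_lt (Order.coheight_anti (show ξ ≤ η from hη)) ?_
  exact lt_top_iff_ne_top.2 fun hc => ne_of_lt (ringKrullDim_lt_top (R := X.presheaf.stalk ξ))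
    (by rw [ringKrullDim_stalk_eq_coheight, hc]; rfl)

/-- The exceptional points of codimension one are finite in number. -/
theorem finite_dim_one : {ξ : X | ¬ IsIso (f.stalkMap ξ) ∧ ringKrullDim (X.presheaf.stalk ξ) = 1}.Finite := by
  obtain ⟨W, hW, hOI⟩ := exists_open f hbir
  haveI := hOI
  obtain ⟨S, hSf, hSc, hSi, hS⟩ := NoetherianSpace.exists_finite_set_isClosed_irreducible W.isOpen.isClosed_compl
  choose g hg using fun s (hs : s ∈ S) => QuasiSober.sober (hSi s hs) (hSc s hs)
  refine (hSf.dependent_image g).subset ?_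
  rintro ξ ⟨hξ, hdim⟩
  have hξW : ξ ∈ ((W : Set X)ᶜ) := fun h => hξ (PurBir.isIso_stalkMap_of_mem f h)
  obtain ⟨s, hs, hξs⟩ := hS.le hξW
  refine ⟨s, hs, ?_⟩
  have hsp : g s hs ⤳ ξ := (hg s hs).specializes hξs
  by_contra hne
  have hmemC : g s hs ∈ ((W : Set X)ᶜ) := hS.ge ⟨s, hs, (hg s hs).mem⟩
  have hlt : ξ < g s hs := lt_of_le_not_ge hsp fun h => hne (hsp.antisymm h).eq
  have h1 := Order.coheight_add_one_le hlt
  rw [ringKrullDim_stalk_eq_coheight] at hdim
  rw [show Order.coheight ξ = 1 from WithBot.coe_eq_coe.1 (hdim.trans (by rfl))] at h1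
  have h0 : Order.coheight (g s hs) = 0 := by
    by_contra h
    have h2 : (1 : ℕ∞) + 1 ≤ 1 := (add_le_add (Order.one_le_iff_ne_zero.2 h) le_rfl).trans h1
    exact absurd h2 (by decide)
  have hmax : IsMax (g s hs) := Order.coheight_eq_zero.1 h0
  exact hmemC (by
    have := hmax (show g s hs ≤ genericPoint X from genericPoint_specializes _)
    have he := (Specializes.antisymm (show genericPoint X ⤳ g s hs from genericPoint_specializes _) this).eq
    rw [← he]; exact PurBir.genericPoint_mem hW)

end Groth.Agent.SurfSeq
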