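import Mathlib
import Groth.Agent.SurfSeq.Stalks
import Groth.Agent.PointBlow.Main
import Groth.Agent.H26.InterDiv
import Groth.Agent.Lib.BlowUpInt
import Groth.Agent.MeroX.EffCartier

/-!
# Proper birational morphisms of regular surfaces are sequences of point blow-ups
-/

set_option autoImplicit false
set_option linter.style.haveILetI false
set_option linter.unusedSectionVars false
set_option backward.isDefEq.respectTransparency false
set_option backward.isDefEq.respectTransparency.types false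
set_option maxHeartbeats 400000

universe u

open CategoryTheory CategoryTheory.Limits AlgebraicGeometry TopologicalSpace IsLocalRing
open Groth.Agent.H23.StalkIdeal

noncomputable section

namespace Groth.Agent.SurfSeq

theorem map_inv_eq_comap {X X' : Scheme.{u}} (e : X' ⟶ X) [IsIso e] (I : X.IdealSheafData) :
    I.map (inv e) = I.comap e := by
  apply le_antisymm
  · refine (Scheme.IdealSheafData.map_mono (inv e) (Scheme.IdealSheafData.le_map_comap (J := I) (f := e))).trans ?_
    dsimp only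
    rw [← Scheme.IdealSheafData.map_comp, IsIso.hom_inv_id, Scheme.IdealSheafData.map_id]
  · rw [← Scheme.IdealSheafData.le_map_iff_comap_le, ← Scheme.IdealSheafData.map_comp, IsIso.inv_hom_id,
      Scheme.IdealSheafData.map_id]

/-- Sequences of contractions are preserved by isomorphisms of the source. -/
theorem seq_iso_comp {X X₀ : Scheme.{u}} {r : X ⟶ X₀} (hr : Models.IsContractionSeq r) :
    ∀ {X' : Scheme.{u}} (e : X' ⟶ X) [IsIso e], Models.IsContractionSeq (e ≫ r) := by
  induction hr with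
  | iso e' =>
    intro X' e _
    exact Models.IsContractionSeq.iso (asIso e ≪≫ e')
  | @step Y Z X₀ E ι b r hι hE hb hr _ =>
    intro X' e _
    haveI := hι
    rw [← Category.assoc]
    obtain ⟨heff, k, hk, φe, ⟨φ⟩⟩ := hE
    obtain ⟨hN, hP, y, hy, hrange, hreg, hdim, hbl⟩ := hb
    haveI := hP
    have hker : (ι ≫ inv e).ker = ι.ker.comap e := by
      rw [← Scheme.IdealSheafData.map_ker, map_inv_eq_comap]
    have heff' : BlowUp.IsEffCartierIdeal (ι.ker.comap e) := BlowUpLib.isEffCartier_comap_flat e heff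
    refine Models.IsContractionSeq.step (ι ≫ inv e) (e ≫ b) r inferInstance ⟨hker ▸ heff', k, hk, φe, ⟨?_⟩⟩
      ⟨hN, inferInstance, y, hy, ?_, hreg, hdim, BlowUpLib.isBlowUp_iso_comp e hbl⟩ hr
    · refine (Scheme.Modules.pullback (φe.hom ≫ ι ≫ inv e)).mapIso
          (eqToIso (congrArg ClSub.idealMod hker) ≪≫ (H26.InterDiv.nonempty_pullback_idealMod e _ heff heff').some.symm) ≪≫
        (Scheme.Modules.pullbackComp (φe.hom ≫ ι ≫ inv e) e).app _ ≪≫
        (Scheme.Modules.pullbackCongr ?_).app _ ≪≫ φ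
      simp
    · rw [Category.assoc, IsIso.inv_hom_id_assoc]
      exact hrange

theorem eq_two {R : Type u} [CommRing R] (h : ringKrullDim R ≤ 2) (h' : ¬ ringKrullDim R ≤ 1) :
    ringKrullDim R = 2 := by
  refine le_antisymm h ?_
  by_contra h2
  refine h' ?_
  generalize ringKrullDim R = d at *
  cases d with
  | bot => exact bot_le
  | coe c =>
    have hc : c < 2 := WithBot.coe_lt_coe.1 (lt_of_not_ge h2)
    have hc1 : c ≤ 1 := Order.le_of_lt_add_one (lt_of_lt_of_le hc (le_of_eq (by rfl)))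
    exact WithBot.coe_le_coe.2 hc1

theorem principal_of_dim_le_one (R : Type u) [CommRing R] [IsRegularLocalRing R] (h : ringKrullDim R ≤ 1) :
    IsPrincipalIdealRing R := by
  haveI := (S2821.result R).1
  haveI := (S2821.result R).2
  haveI : Ring.KrullDimLE 1 R := Ring.krullDimLE_iff.mpr h
  haveI : Ring.DimensionLEOne R := ⟨fun {p} hp0 hp => Ring.krullDimLE_one_iff_of_noZeroDivisors.mp inferInstance p hp0 hp⟩
  have hD : IsDedekindDomain R := {}
  exact ((tfae_of_isNoetherianRing_of_isLocalRing_of_isDomain R).out 2 0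
    (a := IsDedekindDomain R) (b := IsPrincipalIdealRing R) rfl rfl).mp hD

/-- Two-dimensional points are closed. -/
theorem closed_two {X : Scheme.{u}} (hd : ∀ x : X, ringKrullDim (X.presheaf.stalk x) ≤ 2) {z : X}
    (hz : ringKrullDim (X.presheaf.stalk z) = 2) : IsClosed ({z} : Set X) := by
  refine isClosed_of_closure_subset fun w hw => ?_
  have hzw : z ⤳ w := specializes_iff_mem_closure.2 hw
  by_contra hne
  have hlt : w < z := lt_of_le_of_ne hzw hne
  have h1 := hd w
  rw [ringKrullDim_stalk_eq_coheight w] at h1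
  rw [ringKrullDim_stalk_eq_coheight z] at hz
  have hz' : Order.coheight z = 2 := WithBot.coe_eq_coe.1 (hz.trans (by rfl))
  have h1' : Order.coheight w ≤ 2 := WithBot.coe_le_coe.1 (h1.trans_eq (by rfl))
  have h2 := Order.coheight_add_one_le hlt
  rw [hz'] at h2
  exact absurd (h2.trans h1') (by decide)

variable {X Y : Scheme.{u}} [IsIntegral X] [IsIntegral Y] [IsNoetherian X] [IsLocallyNoetherian Y] (f : X ⟶ Y)
  [IsProper f] (hbir : IsIso (f.stalkMap (genericPoint X)))
  (hX : ∀ x : X, IsRegularLocalRing (X.presheaf.stalk x))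
  (hdX : ∀ x : X, ringKrullDim (X.presheaf.stalk x) ≤ 2)
  (hY : ∀ y : Y, IsRegularLocalRing (Y.presheaf.stalk y))
  (hdY : ∀ y : Y, ringKrullDim (Y.presheaf.stalk y) ≤ 2)
include hbir hX hdX hY hdY

/-- The image of a non-isomorphic point is a closed surface point. -/
theorem dim_image {x : X} (hx : ¬ IsIso (f.stalkMap x)) : ringKrullDim (Y.presheaf.stalk (f x)) = 2 :=
  eq_two (hdY _) fun h => hx (isIso_of_dim_le_one f hbir hY x h)

/-- Over an exceptional point all stalk maps fail to be isomorphisms. -/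
theorem not_isIso_over {x z : X} (hx : ¬ IsIso (f.stalkMap x)) (hzx : f z = f x) : ¬ IsIso (f.stalkMap z) :=
  fun hz => hx (by rw [eq_of_isIso f hbir hzx hz]; exact hz)

/-- The maximal ideal of an exceptional point generates invertible ideals upstairs. -/
theorem isEffCartier_pt {x : X} (hx : ¬ IsIso (f.stalkMap x)) (hy : IsClosed ({f x} : Set Y)) :
    BlowUp.IsEffCartierIdeal ((PointBlow.pt hy).comap f) := by
  refine MeroX.isEffCartier_of_stalk _ fun z hz U hzU => ?_
  have hzy : f z = f x := (PointBlow.mem_support_exc hy z).1 hz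
  have hsI : sI ((PointBlow.pt hy).comap f) z = (maximalIdeal (Y.presheaf.stalk (f z))).map (f.stalkMap z).hom := by
    rw [sI_comap]
    refine congrArg (Ideal.map _) ?_
    have key : ∀ (y : Y) (hy' : y = f x), sI (PointBlow.pt hy) y = maximalIdeal (Y.presheaf.stalk y) := by
      rintro y rfl
      exact (congrArg tI (Contraction7.comap_fromSpecStalk hy)).trans (PointBlow.tI_centre _)
    exact key _ hzy
  haveI := hX z
  haveI := hY (f z)
  haveI := (S2821.result (X.presheaf.stalk z)).1
  haveI := (S2821.result (Y.presheaf.stalk (f z))).1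
  have hd2 : ringKrullDim (Y.presheaf.stalk (f z)) = 2 :=
    dim_image f hbir hX hdX hY hdY (not_isIso_over f hbir hX hdX hY hdY hx hzy)
  have hinj := injective_stalk f hbir z
  have hne : (maximalIdeal (Y.presheaf.stalk (f z))).map (f.stalkMap z).hom ≠ ⊥ := fun h => by
    rw [Ideal.map_eq_bot_iff_of_injective hinj] at h
    have h2 := IsLocalRing.maximalIdeal_height_eq_ringKrullDim (R := Y.presheaf.stalk (f z))
    rw [h, Ideal.height_bot, hd2] at h2
    exact absurd (WithBot.coe_eq_coe.1 (h2.trans (by rfl) : ((0 : ℕ∞) : WithBot ℕ∞) = ((2 : ℕ∞) : WithBot ℕ∞))) (by decide)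
  suffices hp : ((maximalIdeal (Y.presheaf.stalk (f z))).map (f.stalkMap z).hom).IsPrincipal by
    obtain ⟨g, hg⟩ := hp
    refine ⟨g, mem_nonZeroDivisors_of_ne_zero fun h0 => hne (hg.trans (Ideal.span_singleton_eq_bot.2 h0)), ?_⟩
    exact ((sI_eq _ U hzU).symm.trans hsI).trans hg
  by_cases hz2 : ringKrullDim (X.presheaf.stalk z) ≤ 1
  · haveI := principal_of_dim_le_one (X.presheaf.stalk z) hz2
    exact IsPrincipalIdealRing.principal _
  refine (principal_or_primary hd2 (eq_two (hdX z) hz2) (f.stalkMap z).hom hinj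
    (exists_fraction f hbir z)).resolve_right fun ⟨n, hn⟩ => not_isIso_over f hbir hX hdX hY hdY hx hzy ?_
  rw [← hsI] at hn
  let I := (PointBlow.pt hy).comap f
  have hmax : ∀ w ∈ (I.support : Set X), w ⤳ z → w = z := by
    intro w hw hwz
    obtain ⟨P, hP⟩ : w ∈ Set.range (X.fromSpecStalk z) := by rw [Scheme.range_fromSpecStalk]; exact hwz
    subst hP
    have h1 : P ∈ ((I.comap (X.fromSpecStalk z)).support : Set ↥(Spec (X.presheaf.stalk z))) := by
      rw [Scheme.IdealSheafData.support_comap]; exact hw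
    rw [PointBlow.comap_fromSpecStalk_eq, show ((BlowUpLib.centre (sI I z)).support : Set ↥(Spec (X.presheaf.stalk z))) = _ from
      Scheme.IdealSheafData.coe_support_ofIdealTop _, Spec_zeroLocus] at h1
    have hPm : P = closedPoint (X.presheaf.stalk z) := by
      refine PrimeSpectrum.ext (le_antisymm (le_maximalIdeal P.2.ne_top) (P.2.le_of_pow_le (hn.trans ?_)))
      intro a ha
      exact h1 (show a ∈ _ from Ideal.mem_map_of_mem _ ha)
    rw [hPm, Scheme.fromSpecStalk_closedPoint]
  obtain ⟨N, hzN, hN⟩ := exists_isolating I.support.isClosed (closed_two hdX (eq_two (hdX z) hz2)) hmax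
  obtain ⟨W, hW, hOI⟩ := exists_open f hbir
  haveI := hOI
  refine PurBir.isIso_stalkMap_of_quasiFiniteAt f (fun y => ?_) hW z
    (quasiFiniteAt_of_isolated f z N hzN fun w hw hwz => hN w hw ((PointBlow.mem_support_exc hy w).2 (hwz.trans hzy)))
  haveI := hY y
  exact (S2821.result (Y.presheaf.stalk y)).2

/-- Blowing up the image of an exceptional point gives a proper birational factorization through a
regular surface with fewer exceptional curves. -/
theorem exists_step [CompactSpace Y] {x : X} (hx : ¬ IsIso (f.stalkMap x)) :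
    ∃ (Y₁ : Scheme.{u}) (g : X ⟶ Y₁) (b : Y₁ ⟶ Y) (_ : IsIntegral Y₁) (_ : IsNoetherian Y₁) (_ : IsProper g),
      g ≫ b = f ∧ IsIso (g.stalkMap (genericPoint X)) ∧
      (∀ y : Y₁, IsRegularLocalRing (Y₁.presheaf.stalk y)) ∧ (∀ y : Y₁, ringKrullDim (Y₁.presheaf.stalk y) ≤ 2) ∧
      (∀ (X₀ : Scheme.{u}) (r : Y ⟶ X₀), Models.IsContractionSeq r → Models.IsContractionSeq (b ≫ r)) ∧
      {ξ : X | ¬ IsIso (g.stalkMap ξ) ∧ ringKrullDim (X.presheaf.stalk ξ) = 1} ⊂
        {ξ : X | ¬ IsIso (f.stalkMap ξ) ∧ ringKrullDim (X.presheaf.stalk ξ) = 1} := by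
  have hd2 : ringKrullDim (Y.presheaf.stalk (f x)) = 2 := dim_image f hbir hX hdX hY hdY hx
  have hy : IsClosed ({f x} : Set Y) := closed_two hdY hd2
  haveI := hY (f x)
  haveI : IsNoetherian Y := {}
  obtain ⟨Y₁, b, hb⟩ := BlowUpLib.exists_blowUp (C := PointBlow.pt hy)
  haveI := PointBlow.isProper_point hy hb
  haveI : IsLocallyNoetherian Y₁ := LocallyOfFiniteType.isLocallyNoetherian b
  haveI : CompactSpace Y₁ := QuasiCompact.compactSpace_of_compactSpace b
  haveI : IsNoetherian Y₁ := {}
  obtain ⟨E, ι, hι, hE, hcon⟩ := PointBlow.exists_contraction hy hb hd2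
  obtain ⟨g, hg, -⟩ := hb.2 X f (isEffCartier_pt f hbir hX hdX hY hdY hx hy)
  obtain ⟨hint, hbgen, hbiso⟩ :
      ∃ _ : IsIntegral Y₁, b (genericPoint Y₁) = genericPoint Y ∧ IsIso (b.stalkMap (genericPoint Y₁)) :=
    (Lib.BlowUpInt.isEmpty_or_birational hb).resolve_left fun h => h.false (g x)
  haveI := hint
  haveI : IsProper (g ≫ b) := by rw [hg]; infer_instance
  haveI : IsProper g := IsProper.of_comp g b
  have hoff : ∀ z : X, f z ≠ f x → IsIso (b.stalkMap (g z)) := fun z hz =>
    PointBlow.isIso_stalkMap_off hy hb (by rw [← Scheme.Hom.comp_apply, hg]; exact hz)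
  have hisog : ∀ z : X, IsIso (f.stalkMap z) → IsIso (g.stalkMap z) := by
    intro z hz
    haveI := hoff z fun h => not_isIso_over f hbir hX hdX hY hdY hx h hz
    have h1 : IsIso ((g ≫ b).stalkMap z) := by
      rw [Scheme.Hom.stalkMap_congr_hom _ _ hg]
      haveI := hz
      infer_instance
    rw [Scheme.Hom.stalkMap_comp] at h1
    exact @IsIso.of_isIso_comp_left _ _ _ _ _ (b.stalkMap (g z)) (g.stalkMap z) inferInstance h1
  have hgbir := hisog _ hbir
  have hYreg : ∀ y : Y₁, IsRegularLocalRing (Y₁.presheaf.stalk y) := fun y =>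
    PointBlow.regular_of_regular hy hb hd2 y (hY (b y))
  have hdY₁ : ∀ y : Y₁, ringKrullDim (Y₁.presheaf.stalk y) ≤ 2 := by
    intro y
    obtain ⟨w, hyw, hw⟩ : ∃ w ∈ closure ({y} : Set Y₁), IsClosed ({w} : Set Y₁) :=
      isClosed_closure.exists_closed_singleton ⟨y, subset_closure rfl⟩
    have hle : ringKrullDim (Y₁.presheaf.stalk y) ≤ ringKrullDim (Y₁.presheaf.stalk w) := by
      rw [ringKrullDim_stalk_eq_coheight, ringKrullDim_stalk_eq_coheight]
      exact WithBot.coe_le_coe.2 (Order.coheight_anti (show w ≤ y from specializes_iff_mem_closure.2 hyw))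
    refine hle.trans ?_
    by_cases hwy : b w = f x
    · exact (PointBlow.stalk_over hy hb hd2 hw hwy).2.le
    · haveI := PointBlow.isIso_stalkMap_off hy hb hwy
      exact (ringKrullDim_eq_of_ringEquiv (asIso (b.stalkMap w)).commRingCatIsoToRingEquiv).symm.trans_le (hdY _)
  obtain ⟨ε, hεx, hεd⟩ : ∃ ε : Y₁, b ε = f x ∧ ringKrullDim (Y₁.presheaf.stalk ε) = 1 := by
    obtain ⟨z, hz, hzc⟩ : ∃ z ∈ b ⁻¹' {f x}, IsClosed ({z} : Set Y₁) :=
      (hy.preimage b.continuous).exists_closed_singleton ⟨g x, by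
        rw [Set.mem_preimage, Set.mem_singleton_iff, ← Scheme.Hom.comp_apply, hg]⟩
    haveI := (PointBlow.stalk_over hy hb hd2 hzc hz).1
    have hzd := (PointBlow.stalk_over hy hb hd2 hzc hz).2
    have hnz : ¬ IsIso (b.stalkMap z) := by
      intro hiso
      haveI := hiso
      let e := (asIso (b.stalkMap z)).commRingCatIsoToRingEquiv
      obtain ⟨γ, -, hγ⟩ := exists_gen hb.1 z
      have h1 : sI ((PointBlow.pt hy).comap b) z = maximalIdeal (Y₁.presheaf.stalk z) := by
        rw [sI_comap]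
        have key : ∀ (y : Y) (hy' : y = f x), sI (PointBlow.pt hy) y = maximalIdeal (Y.presheaf.stalk y) := by
          rintro y rfl
          exact (congrArg tI (Contraction7.comap_fromSpecStalk hy)).trans (PointBlow.tI_centre _)
        rw [key _ hz]
        haveI := hY (b z)
        exact IsLocalRing.map_ringEquiv_maximalIdeal e
      haveI : Submodule.IsPrincipal (maximalIdeal (Y₁.presheaf.stalk z)) := ⟨γ, h1.symm.trans hγ⟩
      have h2 := Ideal.height_le_one_of_isPrincipal_of_mem_minimalPrimes (maximalIdeal (Y₁.presheaf.stalk z))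
        (maximalIdeal (Y₁.presheaf.stalk z)) (by rw [Ideal.minimalPrimes_eq_subsingleton_self]; exact rfl)
      have h3 := IsLocalRing.maximalIdeal_height_eq_ringKrullDim (R := Y₁.presheaf.stalk z)
      rw [hzd] at h3
      rw [show (maximalIdeal (Y₁.presheaf.stalk z)).height = 2 from WithBot.coe_eq_coe.1 (h3.trans (by rfl))] at h2
      exact absurd h2 (by decide)
    obtain ⟨ε, -, hεn, hεd⟩ := exists_dim_one b hbiso hY z hnz
    exact ⟨ε, by_contra fun h => hεn (PointBlow.isIso_stalkMap_off hy hb h), hεd⟩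
  obtain ⟨ξ, hξ⟩ : ε ∈ Set.range g := by
    have hcl := (g.isClosedMap.isClosed_range)
    exact hcl.closure_subset_iff.2 (Set.singleton_subset_iff.2 ⟨_, map_generic g hgbir⟩)
      (by rw [(genericPoint_spec Y₁).def]; trivial)
  subst hξ
  have hgξ : IsIso (g.stalkMap ξ) := isIso_of_dim_le_one g hgbir hYreg ξ hεd.le
  have hξd : ringKrullDim (X.presheaf.stalk ξ) = 1 := by
    haveI := hgξ
    exact (ringKrullDim_eq_of_ringEquiv (asIso (g.stalkMap ξ)).commRingCatIsoToRingEquiv).symm.trans hεd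
  have hfξ : ¬ IsIso (f.stalkMap ξ) := by
    intro h
    haveI := h
    have h1 := (ringKrullDim_eq_of_ringEquiv (asIso (f.stalkMap ξ)).commRingCatIsoToRingEquiv).trans hξd
    rw [show f ξ = f x from (congr($(hg.symm) ξ)).trans hεx, hd2] at h1
    exact absurd (WithBot.coe_eq_coe.1 (h1.trans (by rfl) : ((2 : ℕ∞) : WithBot ℕ∞) = ((1 : ℕ∞) : WithBot ℕ∞))) (by decide)
  refine ⟨Y₁, g, b, hint, inferInstance, inferInstance, hg, hgbir, hYreg, hdY₁,
    fun X₀ r hr => Models.IsContractionSeq.step ι b r hι hE hcon hr, fun w hw => ⟨fun h => hw.1 (hisog w h), hw.2⟩, ?_⟩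
  exact fun h => (h ⟨hfξ, hξd⟩).1 hgξ

omit f hbir hY hdY in
/-- Proper birational morphisms of regular surfaces are sequences of contractions. -/
theorem seq_of_birational : ∀ {Y : Scheme.{u}} [IsIntegral Y] [IsNoetherian Y] (f : X ⟶ Y) [IsProper f],
    IsIso (f.stalkMap (genericPoint X)) → (∀ y : Y, IsRegularLocalRing (Y.presheaf.stalk y)) →
    (∀ y : Y, ringKrullDim (Y.presheaf.stalk y) ≤ 2) →
    ∀ (X₀ : Scheme.{u}) (r : Y ⟶ X₀), Models.IsContractionSeq r → Models.IsContractionSeq (f ≫ r) := by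
  suffices key : ∀ (n : ℕ) {Y : Scheme.{u}} [IsIntegral Y] [IsNoetherian Y] (f : X ⟶ Y) [IsProper f],
      IsIso (f.stalkMap (genericPoint X)) → (∀ y : Y, IsRegularLocalRing (Y.presheaf.stalk y)) →
      (∀ y : Y, ringKrullDim (Y.presheaf.stalk y) ≤ 2) →
      {ξ : X | ¬ IsIso (f.stalkMap ξ) ∧ ringKrullDim (X.presheaf.stalk ξ) = 1}.ncard = n →
      ∀ (X₀ : Scheme.{u}) (r : Y ⟶ X₀), Models.IsContractionSeq r → Models.IsContractionSeq (f ≫ r) from
    fun {Y} _ _ f _ hbir hY hdY => key _ f hbir hY hdY rfl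
  intro n
  induction n using Nat.strong_induction_on with
  | _ n ih => ?_
  intro Y _ _ f _ hbir hY hdY hn X₀ r hr
  by_cases hall : ∀ x, IsIso (f.stalkMap x)
  · haveI : IsLocalIso f := ⟨fun x => PurBir.exists_isOpenImmersion_of_isIso_stalkMap f (hall x)⟩
    obtain ⟨W, hW, hOI⟩ := exists_open f hbir
    haveI := hOI
    haveI := PurBir.isOpenImmersion_of_isLocalIso f hW
    haveI : Surjective f := ⟨fun y => f.isClosedMap.isClosed_range.closure_subset_iff.2
      (Set.singleton_subset_iff.2 ⟨_, map_generic f hbir⟩) (by rw [(genericPoint_spec Y).def]; trivial)⟩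
    haveI : IsIso f := (isIso_iff_isOpenImmersion_and_surjective f).2 ⟨inferInstance, inferInstance⟩
    exact seq_iso_comp hr f
  · obtain ⟨x, hx⟩ := not_forall.1 hall
    obtain ⟨Y₁, g, b, hint, hN, hP, hg, hgbir, hYreg, hdY₁, hb, hss⟩ := exists_step f hbir hX hdX hY hdY hx
    rw [← hg, Category.assoc]
    exact ih _ (hn ▸ Set.ncard_lt_ncard hss (finite_dim_one f hbir)) g hgbir hYreg hdY₁ rfl X₀ _ (hb X₀ r hr)

end Groth.Agent.SurfSeq
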