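import Mathlib
import Groth.Agent.BlowP1.Line
import Groth.Agent.PointBlow.Step

/-!
# The exceptional fibre of a point blow-up is a line over the residue field of the centre
-/

set_option autoImplicit false
set_option linter.style.haveILetI false
set_option linter.unusedSectionVars false
set_option backward.isDefEq.respectTransparency false
set_option backward.isDefEq.respectTransparency.types false
set_option maxHeartbeats 800000

universe u

open CategoryTheory CategoryTheory.Limits AlgebraicGeometry TopologicalSpace IsLocalRing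
open Groth.Agent.InvX Groth.Agent.H23

noncomputable section

namespace Groth.Agent.BlowP1

open BlowUpLib RegBlow6

theorem main_over {A : Type u} [CommRing A] [IsRegularLocalRing A] (hA : ringKrullDim A = 2)
    {X : Scheme.{u}} (b : X ⟶ Spec (CommRingCat.of A)) (hb : BlowUp.IsBlowUp b (centre (maximalIdeal A))) :
    ∃ (I : Ideal A) (_ : I = maximalIdeal A) (_ : I.IsMaximal)
      (e : CohB1.ProjSpace 1 (A ⧸ I) ≅ ((centre (maximalIdeal A)).comap b).subscheme),
      e.hom ≫ ((centre (maximalIdeal A)).comap b).subschemeι ≫ b =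
        CohB1.ProjSpace.toSpec 1 (A ⧸ I) ≫ Spec.map (CommRingCat.ofHom (Ideal.Quotient.mk I)) ∧
      Nonempty ((Scheme.Modules.pullback (e.hom ≫ ((centre (maximalIdeal A)).comap b).subschemeι)).obj
        (ClSub.idealMod ((centre (maximalIdeal A)).comap b).subschemeι.ker) ≅ Twist.twistProjSpace 1 (A ⧸ I) 1) := by
  obtain ⟨a, hI, hq⟩ := exists_gens hA
  have hmax : (cI a).IsMaximal := hI ▸ IsLocalRing.maximalIdeal.isMaximal A
  rw [← hI] at hb ⊢
  obtain ⟨e, he, s, hU, hcov, haff, hgen⟩ := exists_data b a hb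
  let K := (centre (cI a)).comap b
  have hL : PicF.IsInvertible (ClSub.idealMod K) := (S8914.result K).2 hb.1
  refine ⟨cI a, rfl, hmax, ?_⟩
  letI : Field (A ⧸ cI a) := Ideal.Quotient.field _
  let ι := K.subschemeι
  let ιA : Spec (CommRingCat.of (A ⧸ cI a)) ⟶ Spec (CommRingCat.of A) :=
    Spec.map (CommRingCat.ofHom (Ideal.Quotient.mk (cI a)))
  haveI : IsClosedImmersion ιA := IsClosedImmersion.spec_of_surjective _ Ideal.Quotient.mk_surjective
  have hle : ιA.ker ≤ (ι ≫ b).ker := by
    rw [ker_specMk, ← Scheme.IdealSheafData.map_ker, Scheme.IdealSheafData.le_map_iff_comap_le,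
      Scheme.IdealSheafData.ker_subschemeι]
  let q := IsClosedImmersion.lift ιA (ι ≫ b) hle
  have hq' : q ≫ ιA = ι ≫ b := IsClosedImmersion.lift_fac _ _ _
  let L := (Scheme.Modules.pullback ι).obj (ClSub.idealMod K)
  have hLE : PicF.IsInvertible L := PicClLib.isInvertible_pullback ι hL
  let t : Fin (1 + 1) → Γ(L, ⊤) := fun k => InvX.pullElt ι (s k)
  have hloc : ∀ k, TrivBasic.locus (t k) = ι ⁻¹ᵁ TrivBasic.locus (s k) := fun k => TrivBasic.locus_pullElt hL ι (s k)
  obtain ⟨rE, hrE, hrq, ⟨τ⟩⟩ := exists_closedImmersion_of_sections q hLE 1 t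
    (fun y => (hcov (ι y)).imp fun k hk => by rw [hloc]; exact hk)
    (fun k => by rw [hloc]; exact (haff k).preimage ι) fun k => by
      rw [hloc]
      intro S h1 h2
      let φ := (ι.app (TrivBasic.locus (s k))).hom
      have hφ : Function.Surjective φ := ι.app_surjective _ (haff k)
      refine top_le_iff.1 fun y hy => ?_
      clear hy
      obtain ⟨x, rfl⟩ := hφ y
      have hS : S.comap φ = ⊤ := hgen k _ (fun c => ?_) fun l z hz => ?_
      · exact (show x ∈ S.comap φ by rw [hS]; trivial)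
      · have := h1 (Ideal.Quotient.mk _ c)
        rw [← strHom_comp_specMap q (Ideal.Quotient.mk (cI a)) _ c] at this
        show φ _ ∈ S
        rw [show φ _ = strHom (ι ≫ b) _ c from strHom_comp_app ι b _ c, ← hq']
        exact this
      · refine h2 l _ ?_
        refine (InvX.res_pullElt ι (le_top : TrivBasic.locus (s k) ≤ ⊤) (s l)).trans ?_
        rw [hz, InvX.pullElt_smul]
        exact congrArg (ι.app (TrivBasic.locus (s k)) z • ·) (InvX.res_pullElt ι le_top (s k)).symm
  haveI := hrE
  -- the generic point is in the image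
  haveI : IsIntegral (CohB1.ProjSpace 1 (A ⧸ cI a)) := H23.PnChart.isIntegral_projSpace 1 _
  have hexp := (Contraction7.exc_chart a 0 1 (by omega) hq hmax).1
  obtain ⟨M, hM, hle'⟩ := Ideal.exists_le_maximal _ hexp.ne_top
  let z₀ : PrimeSpectrum (chartAlg a 0) := ⟨exc a 0, hexp⟩
  let z₁ : PrimeSpectrum (chartAlg a 0) := ⟨M, hM.isPrime⟩
  let j := chart (cI a) ⟨a 0, mem_cI a 0⟩ ≫ e.hom
  have hrg : ∀ P : PrimeSpectrum (chartAlg a 0), exc a 0 ≤ P.asIdeal → j P ∈ Set.range ι := fun P hP => by
    rw [Scheme.IdealSheafData.range_subschemeι, Scheme.IdealSheafData.support_comap]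
    show (j ≫ b) P ∈ (centre (cI a)).support
    rw [Category.assoc, he, chart_toBase, ← ker_specMk]
    show _ ∈ ((Spec.map (CommRingCat.ofHom (Ideal.Quotient.mk (cI a)))).ker.support : Set (Spec (CommRingCat.of A)))
    rw [Scheme.Hom.support_ker]
    refine subset_closure ⟨⟨⊥, Ideal.isPrime_bot⟩, PrimeSpectrum.ext ?_⟩
    show (⊥ : Ideal (A ⧸ cI a)).comap (Ideal.Quotient.mk (cI a)) = P.asIdeal.comap _
    rw [← RingHom.ker_eq_comap_bot, Ideal.mk_ker]
    exact hmax.eq_of_le (Ideal.IsPrime.ne_top inferInstance) (Ideal.map_le_iff_le_comap.1 hP)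
  obtain ⟨w₀, hw₀⟩ := hrg z₀ le_rfl
  obtain ⟨w₁, hw₁⟩ := hrg z₁ hle'
  have hjsp : j z₀ ⤳ j z₁ := ((PrimeSpectrum.le_iff_specializes z₀ z₁).1 hle').map j.continuous
  have hsp : w₀ ⤳ w₁ := ι.isClosedEmbedding.isInducing.specializes_iff.1 (by rw [hw₀, hw₁]; exact hjsp)
  have hne : w₀ ≠ w₁ := fun h => not_isMaximal_exc a 0 hq hmax (by
    have h' : j z₀ = j z₁ := by rw [← hw₀, ← hw₁, h]
    have h'' := congrArg PrimeSpectrum.asIdeal (j.isOpenEmbedding.injective h')
    exact (show exc a 0 = M from h'') ▸ hM)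
  have hnc : ¬ IsClosed ({rE w₀} : Set (CohB1.ProjSpace 1 (A ⧸ cI a))) := fun h =>
    hne (rE.isClosedEmbedding.injective (((hsp.map rE.continuous).mem_closed h rfl).symm))
  haveI : Surjective rE := ⟨fun y => (show y ∈ Set.range rE from
    ((genericPoint_spec (CohB1.ProjSpace 1 (A ⧸ cI a))).specializes (Set.mem_univ y)).mem_closed
      rE.isClosedEmbedding.isClosed_range
      ⟨w₀, by
        haveI : IsProper (CohB1.ProjSpace.toSpec 1 (A ⧸ cI a)) := PnCoh.Chow.isProper_toSpec 1 _
        haveI : CompactSpace ↥(CohB1.ProjSpace 1 (A ⧸ cI a)) :=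
          QuasiCompact.compactSpace_of_compactSpace (CohB1.ProjSpace.toSpec 1 (A ⧸ cI a))
        exact CurveCohLib.eq_genericPoint_of_not_isClosed (CurveCover.dim_line _) hnc⟩)⟩
  haveI := isIso_of_isClosedImmersion_of_surjective rE
  refine ⟨(asIso rE).symm, ?_, ⟨?_⟩⟩
  · show inv rE ≫ ι ≫ b = _
    rw [← hq', ← hrq, Category.assoc, IsIso.inv_hom_id_assoc]
  rw [Scheme.IdealSheafData.ker_subschemeι]
  refine ((Scheme.Modules.pullbackComp _ ι).app _).symm ≪≫ (Scheme.Modules.pullback _).mapIso τ.symm ≪≫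
    (Scheme.Modules.pullbackComp _ rE).app _ ≪≫ (Scheme.Modules.pullbackCongr (asIso rE).inv_hom_id).app _ ≪≫
    (Scheme.Modules.pullbackId _).app _

end Groth.Agent.BlowP1

namespace Groth.Agent.PointBlow

open Groth.Agent.H23.StalkIdeal

variable {X X₁ : Scheme.{u}} {b : X₁ ⟶ X} {x : X} (hx : IsClosed ({x} : Set X))
  [IsLocallyNoetherian X] (hb : BlowUp.IsBlowUp b (pt hx))

include hb

/-- The blow-up at a regular surface point contracts an exceptional curve of the first kind. -/
theorem exists_exc [IsNoetherian X] [IsRegularLocalRing (X.presheaf.stalk x)]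
    (hdim : ringKrullDim (X.presheaf.stalk x) = 2) :
    ∃ (E : Scheme.{u}) (ι : E ⟶ X₁) (_ : IsClosedImmersion ι) (_ : IsIntegral E), Models.IsExcCurve ι ∧
      Set.range ι = b ⁻¹' {x} ∧ ι.ker = (pt hx).comap b ∧
      ∃ e : CohB1.ProjSpace 1 (X.residueField x) ≅ E,
        e.hom ≫ ι ≫ b = CohB1.ProjSpace.toSpec 1 (X.residueField x) ≫ X.fromSpecResidueField x := by
  let EA := (BlowUpLib.centre (maximalIdeal (X.presheaf.stalk x))).comap (locB b x)
  let ι := EA.subschemeι ≫ locTo b x
  haveI : Flat (X.fromSpecStalk x) := H23.RatExtend.flat_fromSpecStalk X x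
  haveI : IsPreimmersion ι := inferInstance
  have hrange : Set.range ι = b ⁻¹' {x} := by
    ext z
    constructor
    · rintro ⟨w, rfl⟩
      have hw : EA.subschemeι w ∈ (EA.support : Set _) := by
        rw [← Scheme.IdealSheafData.range_subschemeι]; exact ⟨w, rfl⟩
      exact over_of_closedPoint hx hb ((mem_exceptional_iff (A := X.presheaf.stalk x) _ _).1 hw)
    · intro hz
      obtain ⟨z', rfl, hz'⟩ := exists_lift hx hb hz
      obtain ⟨w, hw⟩ : z' ∈ Set.range EA.subschemeι := by
        rw [Scheme.IdealSheafData.range_subschemeι]; exact (mem_exceptional_iff (A := X.presheaf.stalk x) _ _).2 hz'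
      exact ⟨w, by rw [Scheme.Hom.comp_apply, hw]⟩
  haveI : IsClosedImmersion ι := IsClosedImmersion.of_isPreimmersion ι (hrange ▸ hx.preimage b.continuous)
  have hker : ι.ker = (pt hx).comap b := by
    refine ext_sI fun z => ?_
    by_cases hz : b z = x
    · obtain ⟨w, rfl⟩ : z ∈ Set.range ι := by rw [hrange]; exact hz
      haveI := isIso_stalkMap_loc hx hb (EA.subschemeι w)
      let e := (asIso ((locTo b x).stalkMap (EA.subschemeι w))).commRingCatIsoToRingEquiv
      have h1 : sI ι.ker (ι w) = RingHom.ker (ι.stalkMap w).hom := by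
        rw [← ker_stalkMap_closed]
      have h2 : RingHom.ker (ι.stalkMap w).hom = (sI EA (EA.subschemeι w)).comap e.toRingHom := by
        rw [Scheme.Hom.stalkMap_comp, CommRingCat.hom_comp, ← RingHom.comap_ker, ker_stalkMap]
        rfl
      have h3 : sI EA (EA.subschemeι w) = (sI ((pt hx).comap b) (ι w)).map e.toRingHom := by
        show sI EA (EA.subschemeι w) = (sI ((pt hx).comap b) (locTo b x (EA.subschemeι w))).map ((locTo b x).stalkMap (EA.subschemeι w)).hom
        rw [← sI_comap, exc_comap_loc hx hb]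
      rw [h1, h2, h3]
      exact Ideal.comap_map_of_bijective _ e.bijective
    · rw [sI_eq_top, sI_eq_top fun h => hz ((mem_support_exc hx z).1 h)]
      rw [Scheme.Hom.support_ker]
      show z ∉ closure (Set.range ι)
      rw [hrange, (hx.preimage b.continuous).closure_eq]
      exact hz
  obtain ⟨I, rfl, hImax, e, hev, ⟨φ⟩⟩ := BlowP1.main_over hdim (locB b x) (blowUp_local hx hb)
  let k := ((X.presheaf.stalk x : Type u) ⧸ maximalIdeal (X.presheaf.stalk x))
  letI : Field k := Ideal.Quotient.field _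
  haveI : IsIntegral (CohB1.ProjSpace 1 k) := H23.PnChart.isIntegral_projSpace 1 k
  haveI : Nonempty EA.subscheme := ⟨e.hom (Classical.arbitrary _)⟩
  haveI : IsIntegral EA.subscheme := isIntegral_of_isOpenImmersion e.inv
  refine ⟨EA.subscheme, ι, inferInstance, inferInstance, ⟨hker ▸ hb.1, k, inferInstance, e, ⟨?_⟩⟩, hrange, hker,
    e, ?_⟩
  swap
  · show e.hom ≫ (EA.subschemeι ≫ pullback.fst _ _) ≫ b = _
    rw [Category.assoc, pullback.condition]
    have h := congrArg (· ≫ X.fromSpecStalk x) hev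
    simp only [Category.assoc] at h
    exact h
  · have heA : BlowUp.IsEffCartierIdeal (((pt hx).comap b).comap (locTo b x)) := by
      rw [exc_comap_loc hx hb]; exact (blowUp_local hx hb).1
    refine (Scheme.Modules.pullbackCongr (Category.assoc e.hom EA.subschemeι (locTo b x)).symm).app _ ≪≫
      ((Scheme.Modules.pullbackComp (e.hom ≫ EA.subschemeι) (locTo b x)).app _).symm ≪≫
      (Scheme.Modules.pullback (e.hom ≫ EA.subschemeι)).mapIso
        ((Scheme.Modules.pullback (locTo b x)).mapIso (eqToIso (congrArg ClSub.idealMod hker)) ≪≫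
          (H26.InterDiv.nonempty_pullback_idealMod (locTo b x) _ hb.1 heA).some ≪≫
          eqToIso (congrArg ClSub.idealMod (exc_comap_loc hx hb))) ≪≫ ?_
    refine (Scheme.Modules.pullbackCongr ?_).app _ ≪≫
      (Scheme.Modules.pullback _).mapIso (eqToIso (congrArg ClSub.idealMod
        (Scheme.IdealSheafData.ker_subschemeι EA).symm)) ≪≫ φ
    rfl

end Groth.Agent.PointBlow
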