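import Mathlib
import Groth.Agent.H26.FibreIdeal

/-!
# Integral closed subschemes are determined by their image
-/

set_option autoImplicit false
set_option backward.isDefEq.respectTransparency false
set_option backward.isDefEq.respectTransparency.types false

universe u

open CategoryTheory CategoryTheory.Limits AlgebraicGeometry TopologicalSpace

noncomputable section

namespace Groth.Agent.SurfSeq

/-- Integral closed immersions with the same image have the same kernel. -/
theorem ker_eq_of_range {E₁ E₂ X : Scheme.{u}} [IsIntegral E₁] [IsIntegral E₂] (ι₁ : E₁ ⟶ X) (ι₂ : E₂ ⟶ X)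
    [IsClosedImmersion ι₁] [IsClosedImmersion ι₂] (h : Set.range ι₁ = Set.range ι₂) : ι₁.ker = ι₂.ker := by
  have hg : ι₁ (genericPoint E₁) = ι₂ (genericPoint E₂) := by
    have hgp : ∀ {E : Scheme.{u}} [IsIntegral E] (ι : E ⟶ X) [IsClosedImmersion ι],
        IsGenericPoint (ι (genericPoint E)) (Set.range ι) := by
      intro E _ ι _
      have h1 := (genericPoint_spec E).image ι.continuous
      rwa [Set.image_univ, ι.isClosedEmbedding.isClosed_range.closure_eq] at h1
    exact (hgp ι₁).eq (h ▸ hgp ι₂)
  refine Scheme.IdealSheafData.ext (funext fun U => ?_)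
  rcases H26.FibreIdeal.ker_ideal_cases ι₁ U with ⟨h1, e1⟩ | ⟨h1, e1⟩ <;>
    rcases H26.FibreIdeal.ker_ideal_cases ι₂ U with ⟨h2, e2⟩ | ⟨h2, e2⟩
  · rw [e1, e2]
  · exact absurd (hg ▸ h2) h1
  · exact absurd (hg ▸ h1) h2
  · rw [e1, e2]
    exact congrArg (fun x : U.1 => (U.2.primeIdealOf x).asIdeal) (Subtype.ext hg)

end Groth.Agent.SurfSeq
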