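import Mathlib
import Groth.Agent.SurfSeq.Main
import Groth.Agent.SurfSeq.Stalks
import Groth.Agent.PointBlow.Main
import Groth.Agent.H26.InterDiv
import Groth.Agent.Lib.BlowUpInt
import Groth.Agent.MeroX.EffCartier

/-!
# A birational morphism of regular surfaces with irreducible exceptional fibre is a point blow-up
-/

set_option autoImplicit false
set_option linter.style.haveILetI false
set_option linter.unusedSectionVars false
set_option backward.isDefEq.respectTransparency false
set_option backward.isDefEq.respectTransparency.types false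
set_option maxHeartbeats 400000

universe u

open CategoryTheory CategoryTheory.Limits AlgebraicGeometry TopologicalSpace IsLocalRing
open Groth.Agent.H23.StalkIdeal

noncomputable section

namespace Groth.Agent.SurfSeq

variable {X Y : Scheme.{u}} [IsIntegral X] [IsIntegral Y] [IsNoetherian X] [IsLocallyNoetherian Y] (f : X ⟶ Y)
  [IsProper f] (hbir : IsIso (f.stalkMap (genericPoint X)))
  (hX : ∀ x : X, IsRegularLocalRing (X.presheaf.stalk x))
  (hdX : ∀ x : X, ringKrullDim (X.presheaf.stalk x) ≤ 2)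
  (hY : ∀ y : Y, IsRegularLocalRing (Y.presheaf.stalk y))
  (hdY : ∀ y : Y, ringKrullDim (Y.presheaf.stalk y) ≤ 2)
include hbir hX hdX hY hdY

/-- Blowing up the image of an exceptional point gives a proper birational factorization through a
regular surface with fewer exceptional curves. -/
theorem exists_step_blowUp [CompactSpace Y] {x : X} (hx : ¬ IsIso (f.stalkMap x)) :
    ∃ (Y₁ : Scheme.{u}) (g : X ⟶ Y₁) (b : Y₁ ⟶ Y) (_ : IsIntegral Y₁) (_ : IsNoetherian Y₁) (_ : IsProper g),
      g ≫ b = f ∧ IsIso (g.stalkMap (genericPoint X)) ∧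
      (∀ y : Y₁, IsRegularLocalRing (Y₁.presheaf.stalk y)) ∧ (∀ y : Y₁, ringKrullDim (Y₁.presheaf.stalk y) ≤ 2) ∧
      (∀ hy : IsClosed ({f x} : Set Y), BlowUp.IsBlowUp b (PointBlow.pt hy)) ∧
      {ξ : X | ¬ IsIso (g.stalkMap ξ) ∧ ringKrullDim (X.presheaf.stalk ξ) = 1} ⊂
        {ξ : X | ¬ IsIso (f.stalkMap ξ) ∧ ringKrullDim (X.presheaf.stalk ξ) = 1} := by
  have hd2 : ringKrullDim (Y.presheaf.stalk (f x)) = 2 := dim_image f hbir hX hdX hY hdY hx
  have hy : IsClosed ({f x} : Set Y) := closed_two hdY hd2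
  haveI := hY (f x)
  haveI : IsNoetherian Y := {}
  obtain ⟨Y₁, b, hb⟩ := BlowUpLib.exists_blowUp (C := PointBlow.pt hy)
  haveI := PointBlow.isProper_point hy hb
  haveI : IsLocallyNoetherian Y₁ := LocallyOfFiniteType.isLocallyNoetherian b
  haveI : CompactSpace Y₁ := QuasiCompact.compactSpace_of_compactSpace b
  haveI : IsNoetherian Y₁ := {}
  obtain ⟨E, ι, hι, hE, hcon⟩ := PointBlow.exists_contraction hy hb hd2
  obtain ⟨g, hg, -⟩ := hb.2 X f (isEffCartier_pt f hbir hX hdX hY hdY hx hy)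
  obtain ⟨hint, hbgen, hbiso⟩ :
      ∃ _ : IsIntegral Y₁, b (genericPoint Y₁) = genericPoint Y ∧ IsIso (b.stalkMap (genericPoint Y₁)) :=
    (Lib.BlowUpInt.isEmpty_or_birational hb).resolve_left fun h => h.false (g x)
  haveI := hint
  haveI : IsProper (g ≫ b) := by rw [hg]; infer_instance
  haveI : IsProper g := IsProper.of_comp g b
  have hoff : ∀ z : X, f z ≠ f x → IsIso (b.stalkMap (g z)) := fun z hz =>
    PointBlow.isIso_stalkMap_off hy hb (by rw [← Scheme.Hom.comp_apply, hg]; exact hz)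
  have hisog : ∀ z : X, IsIso (f.stalkMap z) → IsIso (g.stalkMap z) := by
    intro z hz
    haveI := hoff z fun h => not_isIso_over f hbir hX hdX hY hdY hx h hz
    have h1 : IsIso ((g ≫ b).stalkMap z) := by
      rw [Scheme.Hom.stalkMap_congr_hom _ _ hg]
      haveI := hz
      infer_instance
    rw [Scheme.Hom.stalkMap_comp] at h1
    exact @IsIso.of_isIso_comp_left _ _ _ _ _ (b.stalkMap (g z)) (g.stalkMap z) inferInstance h1
  have hgbir := hisog _ hbir
  have hYreg : ∀ y : Y₁, IsRegularLocalRing (Y₁.presheaf.stalk y) := fun y =>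
    PointBlow.regular_of_regular hy hb hd2 y (hY (b y))
  have hdY₁ : ∀ y : Y₁, ringKrullDim (Y₁.presheaf.stalk y) ≤ 2 := by
    intro y
    obtain ⟨w, hyw, hw⟩ : ∃ w ∈ closure ({y} : Set Y₁), IsClosed ({w} : Set Y₁) :=
      isClosed_closure.exists_closed_singleton ⟨y, subset_closure rfl⟩
    have hle : ringKrullDim (Y₁.presheaf.stalk y) ≤ ringKrullDim (Y₁.presheaf.stalk w) := by
      rw [ringKrullDim_stalk_eq_coheight, ringKrullDim_stalk_eq_coheight]
      exact WithBot.coe_le_coe.2 (Order.coheight_anti (show w ≤ y from specializes_iff_mem_closure.2 hyw))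
    refine hle.trans ?_
    by_cases hwy : b w = f x
    · exact (PointBlow.stalk_over hy hb hd2 hw hwy).2.le
    · haveI := PointBlow.isIso_stalkMap_off hy hb hwy
      exact (ringKrullDim_eq_of_ringEquiv (asIso (b.stalkMap w)).commRingCatIsoToRingEquiv).symm.trans_le (hdY _)
  obtain ⟨ε, hεx, hεd⟩ : ∃ ε : Y₁, b ε = f x ∧ ringKrullDim (Y₁.presheaf.stalk ε) = 1 := by
    obtain ⟨z, hz, hzc⟩ : ∃ z ∈ b ⁻¹' {f x}, IsClosed ({z} : Set Y₁) :=
      (hy.preimage b.continuous).exists_closed_singleton ⟨g x, by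
        rw [Set.mem_preimage, Set.mem_singleton_iff, ← Scheme.Hom.comp_apply, hg]⟩
    haveI := (PointBlow.stalk_over hy hb hd2 hzc hz).1
    have hzd := (PointBlow.stalk_over hy hb hd2 hzc hz).2
    have hnz : ¬ IsIso (b.stalkMap z) := by
      intro hiso
      haveI := hiso
      let e := (asIso (b.stalkMap z)).commRingCatIsoToRingEquiv
      obtain ⟨γ, -, hγ⟩ := exists_gen hb.1 z
      have h1 : sI ((PointBlow.pt hy).comap b) z = maximalIdeal (Y₁.presheaf.stalk z) := by
        rw [sI_comap]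
        have key : ∀ (y : Y) (hy' : y = f x), sI (PointBlow.pt hy) y = maximalIdeal (Y.presheaf.stalk y) := by
          rintro y rfl
          exact (congrArg tI (Contraction7.comap_fromSpecStalk hy)).trans (PointBlow.tI_centre _)
        rw [key _ hz]
        haveI := hY (b z)
        exact IsLocalRing.map_ringEquiv_maximalIdeal e
      haveI : Submodule.IsPrincipal (maximalIdeal (Y₁.presheaf.stalk z)) := ⟨γ, h1.symm.trans hγ⟩
      have h2 := Ideal.height_le_one_of_isPrincipal_of_mem_minimalPrimes (maximalIdeal (Y₁.presheaf.stalk z))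
        (maximalIdeal (Y₁.presheaf.stalk z)) (by rw [Ideal.minimalPrimes_eq_subsingleton_self]; exact rfl)
      have h3 := IsLocalRing.maximalIdeal_height_eq_ringKrullDim (R := Y₁.presheaf.stalk z)
      rw [hzd] at h3
      rw [show (maximalIdeal (Y₁.presheaf.stalk z)).height = 2 from WithBot.coe_eq_coe.1 (h3.trans (by rfl))] at h2
      exact absurd h2 (by decide)
    obtain ⟨ε, -, hεn, hεd⟩ := exists_dim_one b hbiso hY z hnz
    exact ⟨ε, by_contra fun h => hεn (PointBlow.isIso_stalkMap_off hy hb h), hεd⟩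
  obtain ⟨ξ, hξ⟩ : ε ∈ Set.range g := by
    have hcl := (g.isClosedMap.isClosed_range)
    exact hcl.closure_subset_iff.2 (Set.singleton_subset_iff.2 ⟨_, map_generic g hgbir⟩)
      (by rw [(genericPoint_spec Y₁).def]; trivial)
  subst hξ
  have hgξ : IsIso (g.stalkMap ξ) := isIso_of_dim_le_one g hgbir hYreg ξ hεd.le
  have hξd : ringKrullDim (X.presheaf.stalk ξ) = 1 := by
    haveI := hgξ
    exact (ringKrullDim_eq_of_ringEquiv (asIso (g.stalkMap ξ)).commRingCatIsoToRingEquiv).symm.trans hεd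
  have hfξ : ¬ IsIso (f.stalkMap ξ) := by
    intro h
    haveI := h
    have h1 := (ringKrullDim_eq_of_ringEquiv (asIso (f.stalkMap ξ)).commRingCatIsoToRingEquiv).trans hξd
    rw [show f ξ = f x from (congr($(hg.symm) ξ)).trans hεx, hd2] at h1
    exact absurd (WithBot.coe_eq_coe.1 (h1.trans (by rfl) : ((2 : ℕ∞) : WithBot ℕ∞) = ((1 : ℕ∞) : WithBot ℕ∞))) (by decide)
  refine ⟨Y₁, g, b, hint, inferInstance, inferInstance, hg, hgbir, hYreg, hdY₁,
    fun _ => hb, fun w hw => ⟨fun h => hw.1 (hisog w h), hw.2⟩, ?_⟩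
  exact fun h => (h ⟨hfξ, hξd⟩).1 hgξ


omit f hbir hY hdY in
/-- With an irreducible exceptional fibre a birational morphism is the blowing up. -/
theorem isBlowUp_of_irreducible_fibre {Y : Scheme.{u}} [IsIntegral Y] [IsNoetherian Y] (f : X ⟶ Y) [IsProper f]
    (hbir : IsIso (f.stalkMap (genericPoint X))) (hY : ∀ y : Y, IsRegularLocalRing (Y.presheaf.stalk y))
    (hdY : ∀ y : Y, ringKrullDim (Y.presheaf.stalk y) ≤ 2) (y : Y) (hy : IsClosed ({y} : Set Y))
    (hiso : ∀ z : X, f z ≠ y → IsIso (f.stalkMap z)) (hirr : IsPreirreducible (f ⁻¹' {y}))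
    {x : X} (hxy : f x = y) (hx : ¬ IsIso (f.stalkMap x)) :
    BlowUp.IsBlowUp f (Scheme.IdealSheafData.vanishingIdeal ⟨{y}, hy⟩) := by
  subst hxy
  obtain ⟨Y₁, g, b, hint, hN, hP, hg, hgbir, hYreg, hdY₁, hb, hss⟩ :=
    exists_step_blowUp f hbir hX hdX hY hdY hx
  haveI := hint; haveI := hN; haveI := hP
  obtain ⟨ξ, hξ, hξg⟩ := Set.exists_of_ssubset hss
  have hfib : ∀ {w : X}, ¬ IsIso (f.stalkMap w) → w ∈ f ⁻¹' {f x} := fun {w} hw => by
    by_contra h
    exact hw (hiso w h)
  obtain ⟨η, hη⟩ := QuasiSober.sober (⟨⟨x, rfl⟩, hirr⟩ : IsIrreducible (f ⁻¹' {f x})) (hy.preimage f.continuous)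
  have heq : ∀ {w : X}, ¬ IsIso (f.stalkMap w) → ringKrullDim (X.presheaf.stalk w) = 1 → w = η := fun {w} hw hd => by
    have hsp : η ⤳ w := hη.specializes (hfib hw)
    by_contra hne
    have hlt : w < η := lt_of_le_not_ge hsp fun h => hne (hsp.antisymm h).eq.symm
    rw [ringKrullDim_stalk_eq_coheight] at hd
    have h1 := Order.coheight_add_one_le hlt
    rw [show Order.coheight w = 1 from WithBot.coe_eq_coe.1 (hd.trans (by rfl))] at h1
    have h0 : Order.coheight η = 0 := by
      by_contra h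
      have h2 : (1 : ℕ∞) + 1 ≤ 1 := (add_le_add (Order.one_le_iff_ne_zero.2 h) le_rfl).trans h1
      exact absurd h2 (by decide)
    have hgen : η = genericPoint X :=
      (Specializes.antisymm (Order.coheight_eq_zero.1 h0 (show η ≤ genericPoint X from genericPoint_specializes _))
        (show genericPoint X ⤳ η from genericPoint_specializes _)).eq
    refine hx ?_
    have hgY : f x = genericPoint Y := by
      rw [← map_generic f hbir, ← hgen]
      exact (Set.mem_singleton_iff.1 hη.mem).symm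
    refine isIso_of_dim_le_one f hbir hY x ?_
    rw [ringKrullDim_stalk_eq_coheight, hgY, Order.coheight_eq_zero.2 fun z hz => genericPoint_specializes z]
    exact zero_le_one
  have hall : ∀ w, IsIso (g.stalkMap w) := fun w => by
    by_contra hw
    obtain ⟨ζ, -, hζg, hζd⟩ := exists_dim_one g hgbir hYreg w hw
    have hζ := hss.subset ⟨hζg, hζd⟩
    exact hξg (by rw [heq hξ.1 hξ.2, ← heq hζ.1 hζ.2]; exact ⟨hζg, hζd⟩)
  haveI : IsLocalIso g := ⟨fun w => PurBir.exists_isOpenImmersion_of_isIso_stalkMap g (hall w)⟩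
  obtain ⟨W, hW, hOI⟩ := exists_open g hgbir
  haveI := hOI
  haveI := PurBir.isOpenImmersion_of_isLocalIso g hW
  haveI : Surjective g := ⟨fun z => g.isClosedMap.isClosed_range.closure_subset_iff.2
    (Set.singleton_subset_iff.2 ⟨_, map_generic g hgbir⟩) (by rw [(genericPoint_spec Y₁).def]; trivial)⟩
  haveI : IsIso g := (isIso_iff_isOpenImmersion_and_surjective g).2 ⟨inferInstance, inferInstance⟩
  have key : BlowUp.IsBlowUp (g ≫ b) (Scheme.IdealSheafData.vanishingIdeal ⟨{f x}, hy⟩) :=
    BlowUpLib.isBlowUp_iso_comp g (hb hy)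
  exact hg ▸ key

end Groth.Agent.SurfSeq
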